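import Groth.Prelude.Def_Curve
import Groth.Prelude.Def_FinFr
import Groth.Agent.L08.SmallNorm.FinFieldProper
import Groth.Agent.L26.AV.FrobPullback
import Groth.Agent.L21.RR.GeomGenusZero
import Groth.Agent.L21.Disc.SimplyConn
import Groth.Agent.L21.Duality.Deg
import Groth.Agent.L03.SurfFib.PullDeg
import Groth.Agent.L03.BlowPt.PtDeg

/-!
# The geometric Frobenius of a curve over a finite field
-/

set_option autoImplicit false
set_option linter.style.haveILetI false
set_option linter.unusedSectionVars false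
set_option backward.isDefEq.respectTransparency false

universe u

open CategoryTheory CategoryTheory.Limits AlgebraicGeometry TopologicalSpace
open Groth.L22 Groth.L22.Inter Groth.L22.Nef Groth.L22.Big Groth.L03.SurfNum

noncomputable section

namespace Groth.L03.HasseWeil

/-- A smooth proper geometrically irreducible scheme over a field is geometrically integral. -/
theorem geometricallyIntegral_of_smooth {k : Type u} [Field k] {X : Scheme.{u}} (p : X ⟶ Spec (CommRingCat.of k))
    [IsProper p] [Smooth p] [GeometricallyIrreducible p] : GeometricallyIntegral p := by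
  refine ⟨fun K _ y Y g q sq => ?_⟩
  haveI : IsProper q := MorphismProperty.of_isPullback (P := @IsProper) sq inferInstance
  haveI : Smooth q := MorphismProperty.of_isPullback (P := @Smooth) sq inferInstance
  haveI : IrreducibleSpace Y := GeometricallyIrreducible.geometrically_irreducibleSpace _ _ _ sq
  haveI : IsNoetherian Y :=
    letI : Y.Over (Spec (CommRingCat.of K)) := ⟨q⟩
    haveI : IsProper (Y ↘ Spec (CommRingCat.of K)) := ‹IsProper q›
    Groth.L21.RR.isNoetherian_of_proper (X := Y) K
  refine Groth.L21.NormalTotal.isIntegral_of_connected fun x => ?_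
  exact Groth.L21.Smooth.isDomain_stalk q x

section Endo

variable {K : Type u} [Field K] [IsAlgClosed K] {X : Scheme.{u}} [X.Over (Spec (CommRingCat.of K))]
  [IsProper (X ↘ Spec (CommRingCat.of K))] [Smooth (X ↘ Spec (CommRingCat.of K))] [IsIntegral X]
  (hX : topologicalKrullDim X = 1) (F : X ⟶ X)
  (hF : F ≫ (X ↘ Spec (CommRingCat.of K)) = X ↘ Spec (CommRingCat.of K))

include hX

omit [IsAlgClosed K] in
theorem deg_nonneg_of_nef {L : X.Modules} (h : IsNef K L) : 0 ≤ Curv2.deg K X L 1 := by
  haveI := Groth.L21.RR.isNoetherian_of_proper (X := X) K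
  have hη : topologicalKrullDim (closure ({genericPoint X} : Set X)) = (1 : ℕ) := by
    rw [(genericPoint_spec X).def]
    exact (Homeomorph.Set.univ X).isHomeomorph.topologicalKrullDim_eq.trans (hX.trans Nat.cast_one.symm)
  have h2 := h.2 _ hη
  rw [altT_integral K (r := 1) (hX.trans Nat.cast_one.symm) (L := fun _ => L) fun _ => h.1, altT_one,
    Groth.L03.Euler.euler_iso (Groth.L00.Tensor.tensorUnitLeft L)] at h2
  rw [Curv2.deg]
  have h3 : (0 : ℚ) ≤ ((Curv2.euler K X L - Curv2.euler K X (Coh.structureModule X) : ℤ) : ℚ) := by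
    push_cast at h2 ⊢
    simpa using h2
  have h4 : (0 : ℤ) ≤ Curv2.euler K X L - Curv2.euler K X (Coh.structureModule X) := by exact_mod_cast h3
  push_cast
  linarith

/-- Multiples of an invertible module, with their pullbacks. -/
theorem exists_mult {M : X.Modules} (hM : PicF.IsInvertible M) (a : ℤ) :
    ∃ Z : X.Modules, PicF.IsInvertible Z ∧ Curv2.deg K X Z 1 = a * Curv2.deg K X M 1 ∧
      Curv2.deg K X ((Scheme.Modules.pullback F).obj Z) 1 =
        a * Curv2.deg K X ((Scheme.Modules.pullback F).obj M) 1 := by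
  haveI := Groth.L21.RR.isNoetherian_of_proper (X := X) K
  have hunit : Curv2.deg K X (Coh.structureModule X) 1 = 0 := by rw [Curv2.deg]; simp
  have hadd : ∀ {A B : X.Modules}, PicF.IsInvertible A → PicF.IsInvertible B →
      Curv2.deg K X ((Scheme.Modules.pullback F).obj (CohB1.tensorMod A B)) 1 =
        Curv2.deg K X ((Scheme.Modules.pullback F).obj A) 1 + Curv2.deg K X ((Scheme.Modules.pullback F).obj B) 1 := by
    intro A B hA hB
    rw [← Groth.L21.Duality.deg_tensor (k := K) hX (Groth.L18.Ample.isInvertible_pullback F hA)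
      (Groth.L18.Ample.isInvertible_pullback F hB),
      Groth.L21.RR.deg_congr K (Groth.L29.DC.PullTensor.pullTensor F A B) 1]
  have hnat : ∀ {M : X.Modules}, PicF.IsInvertible M → ∀ n : ℕ,
      Curv2.deg K X (CohB1.tensorPow M n) 1 = n * Curv2.deg K X M 1 ∧
      Curv2.deg K X ((Scheme.Modules.pullback F).obj (CohB1.tensorPow M n)) 1 =
        n * Curv2.deg K X ((Scheme.Modules.pullback F).obj M) 1 := by
    intro M hM n
    induction n with
    | zero =>
      refine ⟨?_, ?_⟩
      · show Curv2.deg K X (Coh.structureModule X) 1 = _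
        rw [hunit]; simp
      · show Curv2.deg K X ((Scheme.Modules.pullback F).obj (Coh.structureModule X)) 1 = _
        rw [Groth.L21.RR.deg_congr K (Groth.L29.LocFree.pullbackUnitIso F) 1, hunit]; simp
    | succ n ih =>
      have hn := Groth.L18.Ample.isInvertible_tensorPow hM n
      refine ⟨?_, ?_⟩
      · show Curv2.deg K X (CohB1.tensorMod (CohB1.tensorPow M n) M) 1 = _
        rw [Groth.L21.Duality.deg_tensor (k := K) hX hn hM, ih.1]; push_cast; ring
      · show Curv2.deg K X ((Scheme.Modules.pullback F).obj (CohB1.tensorMod (CohB1.tensorPow M n) M)) 1 = _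
        rw [hadd hn hM, ih.2]; push_cast; ring
  obtain ⟨N, hN, ⟨e⟩⟩ := Groth.L08.Cube.exists_inverse hM
  have h1 := Groth.L21.Duality.deg_tensor (k := K) hX hM hN
  rw [Groth.L21.RR.deg_congr K e 1, hunit] at h1
  have h2 := hadd hM hN
  rw [Groth.L21.RR.deg_congr K ((Scheme.Modules.pullback F).mapIso e ≪≫ Groth.L29.LocFree.pullbackUnitIso F) 1,
    hunit] at h2
  rcases Int.eq_nat_or_neg a with ⟨n, rfl | rfl⟩
  · exact ⟨_, Groth.L18.Ample.isInvertible_tensorPow hM n, hnat hM n⟩
  · refine ⟨_, Groth.L18.Ample.isInvertible_tensorPow hN n, ?_, ?_⟩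
    · rw [(hnat hN n).1]; linear_combination (-(n : ℤ)) * h1
    · rw [(hnat hN n).2]; linear_combination (-(n : ℤ)) * h2

include hF

/-- The degree of pullbacks by an endomorphism is determined by one module of nonzero degree. -/
theorem deg_pullback_endo {M₀ : X.Modules} (hM₀ : PicF.IsInvertible M₀) (h0 : Curv2.deg K X M₀ 1 ≠ 0) {q : ℤ}
    (hq : Curv2.deg K X ((Scheme.Modules.pullback F).obj M₀) 1 = q * Curv2.deg K X M₀ 1)
    {M : X.Modules} (hM : PicF.IsInvertible M) :
    Curv2.deg K X ((Scheme.Modules.pullback F).obj M) 1 = q * Curv2.deg K X M 1 := by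
  haveI := Groth.L21.RR.isNoetherian_of_proper (X := X) K
  have hzero : ∀ {A : X.Modules}, PicF.IsInvertible A → Curv2.deg K X A 1 = 0 →
      Curv2.deg K X ((Scheme.Modules.pullback F).obj A) 1 = 0 := by
    intro A hA h
    obtain ⟨Z, hZ, hZd, hZd'⟩ := exists_mult (K := K) hX F hA (-1)
    have h1 := deg_nonneg_of_nef hX ((Groth.L03.SurfFib.isNef_of_deg_zero (k := K) hX hA h).pullback' F hF)
    have h2 := deg_nonneg_of_nef hX ((Groth.L03.SurfFib.isNef_of_deg_zero (k := K) hX hZ (by rw [hZd, h]; ring)).pullback' F hF)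
    omega
  set d := Curv2.deg K X M 1
  set e := Curv2.deg K X M₀ 1
  obtain ⟨A, hA, hAd, hAd'⟩ := exists_mult (K := K) hX F hM e
  obtain ⟨B, hB, hBd, hBd'⟩ := exists_mult (K := K) hX F hM₀ (-d)
  have hAB := hzero (Groth.L18.GenLoc.isInvertible_tensor hA hB) (by
    rw [Groth.L21.Duality.deg_tensor (k := K) hX hA hB, hAd, hBd]; ring)
  rw [← Groth.L21.RR.deg_congr K (Groth.L29.DC.PullTensor.pullTensor F A B) 1,
    Groth.L21.Duality.deg_tensor (k := K) hX (Groth.L18.Ample.isInvertible_pullback F hA)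
      (Groth.L18.Ample.isInvertible_pullback F hB), hAd', hBd', hq] at hAB
  refine mul_left_cancel₀ h0 ?_
  linear_combination hAB

end Endo

variable {k : Type u} [Field k] [Finite k] {C : Scheme.{u}} [C.Over (Spec (CommRingCat.of k))]
  [IsProper (C ↘ Spec (CommRingCat.of k))] [Smooth (C ↘ Spec (CommRingCat.of k))] [IsIntegral C]

variable (k C) in
/-- There is an absolute Frobenius over the ground field. -/
theorem exists_frobenius : ∃ (FX : C ⟶ C) (hle : ∀ U : C.Opens, U ≤ FX ⁻¹ᵁ U), FX.base = 𝟙 _ ∧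
    FX ≫ (C ↘ Spec (CommRingCat.of k)) = C ↘ Spec (CommRingCat.of k) ∧
    ∀ (U : C.Opens) (s : Γ(C, U)), (FX.appLE U U (hle U)).hom s = s ^ Nat.card k := by
  let p := ringChar k
  haveI : CharP k p := ringChar.charP k
  haveI : Fact p.Prime := ⟨CharP.char_is_prime k p⟩
  haveI : Fintype k := Fintype.ofFinite k
  obtain ⟨n, -, hn⟩ := FiniteField.card k p
  have hq : Nat.card k = p ^ (n : ℕ) := by rw [Nat.card_eq_fintype_card]; exact hn
  haveI : FrobSch.IsCharP C p := FrobSch.IsCharP.of_hom (C ↘ Spec (CommRingCat.of k)) p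
  have hb : ∀ x : C, Groth.L08.SmallNorm.Fr C p ((n : ℕ) * 1) x = x := Groth.L08.SmallNorm.Fr_base C
  refine ⟨Groth.L08.SmallNorm.Fr C p ((n : ℕ) * 1), fun U x hx => ?_, ?_, ?_, fun U s => ?_⟩
  · show Groth.L08.SmallNorm.Fr C p ((n : ℕ) * 1) x ∈ U
    rw [hb]; exact hx
  · ext x
    exact hb x
  · rw [Groth.L08.SmallNorm.Fr_comp, Groth.L08.SmallNorm.Fr_spec_eq_id p (n : ℕ) hq, Category.comp_id]
  · rw [show Nat.card k = p ^ ((n : ℕ) * 1) by rw [mul_one, hq]]
    exact (Groth.L04.FrobTwist.iter_frob_apply C p _).2 U _ s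

variable (K : Type u) [Field K] [Algebra k K] [IsAlgClosed K] {X : Scheme.{u}} [X.Over (Spec (CommRingCat.of K))]
  [IsProper (X ↘ Spec (CommRingCat.of K))] [Smooth (X ↘ Spec (CommRingCat.of K))] [IsIntegral X]
  (π : X ⟶ C) (sq : IsPullback π (X ↘ Spec (CommRingCat.of K)) (C ↘ Spec (CommRingCat.of k))
    (Spec.map (CommRingCat.ofHom (algebraMap k K))))

include sq in
/-- The relative Frobenius multiplies degrees by the number of elements of the ground field. -/
theorem deg_frobenius (hC : topologicalKrullDim C = 1) (hX : topologicalKrullDim X = 1) (FX : C ⟶ C)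
    (hle : ∀ U : C.Opens, U ≤ FX ⁻¹ᵁ U)
    (happ : ∀ (U : C.Opens) (s : Γ(C, U)), (FX.appLE U U (hle U)).hom s = s ^ Nat.card k) (F : X ⟶ X)
    (hF : F ≫ (X ↘ Spec (CommRingCat.of K)) = X ↘ Spec (CommRingCat.of K)) (hFπ : F ≫ π = π ≫ FX)
    {M : X.Modules} (hM : PicF.IsInvertible M) :
    Curv2.deg K X ((Scheme.Modules.pullback F).obj M) 1 = (Nat.card k : ℤ) * Curv2.deg K X M 1 := by
  haveI := Groth.L21.RR.isNoetherian_of_proper (X := C) k
  obtain ⟨c, -, hc⟩ := (isClosed_univ (X := C)).exists_closed_singleton ⟨genericPoint C, trivial⟩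
  haveI : IsClosedImmersion (C.fromSpecResidueField c) := isClosed_singleton_iff_isClosedImmersion.mp hc
  have hI : PicF.IsInvertible (ClSub.idealMod (Groth.L03.BlowPt.ptI hc)) := by
    refine Groth.L21.RR.isInvertible_idealMod k hC _ ?_
    rw [show ((Groth.L03.BlowPt.ptI hc).support : Set C) = {c} from Groth.L18.support_vanishingIdeal _]
    exact genericPoint_notMem_point k hC hc
  set J := ClSub.idealMod (Groth.L03.BlowPt.ptI hc)
  have hJ : Curv2.deg k C J 1 = - (Groth.L03.BlowPt.ptDeg k hc) := by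
    have h := Groth.L03.SurfAdj.euler_quotMod k _ hI
    rw [Curv2.deg]
    show _ = - Curv2.euler k C (ClSub.quotMod (Groth.L03.BlowPt.ptI hc))
    push_cast
    linarith
  have hneg : Curv2.deg k C J 1 ≠ 0 := by
    letI : Algebra k (C.residueField c) := Curv2.resAlgebra k C c
    haveI : Module.Finite k (C.residueField c) := Groth.L21.Disc.finite_residueField_of_isClosed k hc
    rw [hJ, Groth.L03.BlowPt.ptDeg_eq hc k]
    have := Module.finrank_pos (R := k) (M := C.residueField c)
    omega
  have hpow : ∀ n : ℕ, Curv2.deg k C (CohB1.tensorPow J n) 1 = n * Curv2.deg k C J 1 := fun n => by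
    induction n with
    | zero => show Curv2.deg k C (Coh.structureModule C) 1 = _; rw [Curv2.deg]; simp
    | succ n ih =>
      show Curv2.deg k C (CohB1.tensorMod (CohB1.tensorPow J n) J) 1 = _
      rw [Groth.L21.Duality.deg_tensor (k := k) hC (Groth.L18.Ample.isInvertible_tensorPow hI n) hI, ih]
      push_cast; ring
  obtain ⟨i⟩ := Groth.Agent.AV.FrobPullback.nonempty_iso FX hle (Nat.card k) happ hI
  refine deg_pullback_endo hX F hF (M₀ := (Scheme.Modules.pullback π).obj J)
    (Groth.L18.Ample.isInvertible_pullback π hI) (by rw [Groth.L21.RR.deg_pullback π sq hI]; exact hneg) ?_ hM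
  have e : (Scheme.Modules.pullback F).obj ((Scheme.Modules.pullback π).obj J) ≅
      (Scheme.Modules.pullback π).obj (CohB1.tensorPow J (Nat.card k)) :=
    (Scheme.Modules.pullbackComp F π).app J ≪≫
      (Scheme.Modules.pullbackCongr hFπ).app J ≪≫ ((Scheme.Modules.pullbackComp π FX).app J).symm ≪≫
      (Scheme.Modules.pullback π).mapIso i
  rw [Groth.L21.RR.deg_congr K e 1,
    Groth.L21.RR.deg_pullback π sq (Groth.L18.Ample.isInvertible_tensorPow hI _),
    Groth.L21.RR.deg_pullback π sq hI, hpow]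

end Groth.L03.HasseWeil
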