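import Groth.Agent.L03.HasseWeil.Main
import Groth.Agent.L11.Weil.FixedPts
import Groth.Agent.L11.Zeta.Counts
import Groth.Agent.S14550
import Groth.Prelude.Def_SgaExt
import Groth.Prelude.Def_Curve
import Mathlib.Analysis.SpecialFunctions.Pow.Real

/-!
# The Hasse–Weil bound for a curve over a finite field
-/

set_option autoImplicit false
set_option linter.style.haveILetI false
set_option linter.unusedSectionVars false
set_option backward.isDefEq.respectTransparency false

universe u

open CategoryTheory CategoryTheory.Limits AlgebraicGeometry TopologicalSpace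

noncomputable section

namespace Groth.L03.HasseWeil

variable {k : Type u} [Field k] [Finite k] {C : Scheme.{u}} [C.Over (Spec (CommRingCat.of k))]
  [IsProper (C ↘ Spec (CommRingCat.of k))] [Smooth (C ↘ Spec (CommRingCat.of k))]
  [GeometricallyIrreducible (C ↘ Spec (CommRingCat.of k))]

/-- The inequality for the rational points. -/
theorem sq_pointCount_le (hC : topologicalKrullDim C = 1) :
    ((SgaExt.pointCount (C ↘ Spec (CommRingCat.of k)) k : ℤ) - (Nat.card k : ℤ) - 1) ^ 2 ≤
      4 * (Curv2.genus k C : ℤ) ^ 2 * (Nat.card k : ℤ) := by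
  haveI := geometricallyIntegral_of_smooth (C ↘ Spec (CommRingCat.of k))
  haveI : IsIntegral C := GeometricallyIntegral.isIntegral_of_subsingleton (C ↘ Spec (CommRingCat.of k))
  haveI : CompactSpace C := QuasiCompact.compactSpace_of_compactSpace (C ↘ Spec (CommRingCat.of k))
  obtain ⟨FX, hle, hFb, hFk, happ⟩ := exists_frobenius k C
  let K := AlgebraicClosure k
  let f := C ↘ Spec (CommRingCat.of k)
  letI : (FinFr.ext K f).Over (Spec (CommRingCat.of K)) := ⟨FinFr.extStr K f⟩
  have sq : IsPullback (FinFr.extπ K f) ((FinFr.ext K f) ↘ Spec (CommRingCat.of K)) f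
      (Spec.map (CommRingCat.ofHom (algebraMap k K))) := IsPullback.of_hasPullback _ _
  obtain ⟨hint, hprop, hdim⟩ := Groth.L21.RR.bc_facts (k := k) (X := C) K hC (FinFr.extπ K f) sq
  haveI := hint
  haveI := hprop
  haveI : Smooth ((FinFr.ext K f) ↘ Spec (CommRingCat.of K)) := MorphismProperty.of_isPullback (P := @Smooth) sq inferInstance
  let F : FinFr.ext K f ⟶ FinFr.ext K f := pullback.lift (FinFr.extπ K f ≫ FX) (FinFr.extStr K f)
    (by rw [Category.assoc, hFk]; exact pullback.condition)
  have hF1 : F ≫ FinFr.extπ K f = FinFr.extπ K f ≫ FX := pullback.lift_fst _ _ _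
  have hF2 : F ≫ FinFr.extStr K f = FinFr.extStr K f := pullback.lift_snd _ _ _
  obtain ⟨hred, hfin⟩ := Groth.Agent.S14550.result f FX hFb hle happ F hF1 hF2
  have h := sq_fix_le (K := K) hdim F hF2
    (fun M hM => deg_frobenius K (FinFr.extπ K f) sq hC hdim FX hle happ F hF2 hF1 hM) hred hfin
  rw [Groth.L21.RR.genus_bc (FinFr.extπ K f) sq, natCard_fix (K := K) hdim F hF2 hfin] at h
  have hφ : ∀ c : K, Groth.L11.Points.frobPow (k₀ := k) K 1 c = c ^ Nat.card k := fun c => by
    rw [Groth.L11.Points.frobPow_apply, pow_one]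
  have hcard : Nat.card {y : Spec (CommRingCat.of K) ⟶ FinFr.ext K f //
      y ≫ ((FinFr.ext K f) ↘ Spec (CommRingCat.of K)) = 𝟙 _ ∧ y ≫ F = y} =
        SgaExt.pointCount f k := by
    rw [Groth.L11.Points.pointCount_eq k, Module.finrank_self,
      ← (Groth.L11.Points.card_fixed_points (k₀ := k) (k := K) (X := C) one_pos).2]
    refine Nat.card_congr
      { toFun := fun y => ⟨y.1 ≫ FinFr.extπ K f, ?_, ?_⟩
        invFun := fun h => ⟨pullback.lift h.1 (𝟙 _) (by rw [Category.id_comp]; exact h.2.1),
          pullback.lift_snd _ _ _, ?_⟩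
        left_inv := fun y => Subtype.ext ?_
        right_inv := fun h => Subtype.ext (pullback.lift_fst _ _ _) }
    · exact ((Category.assoc _ _ _).trans (congrArg (y.1 ≫ ·) pullback.condition)).trans
        ((Category.assoc _ _ _).symm.trans ((congrArg (· ≫ _) y.2.1).trans (Category.id_comp _)))
    · rw [← Groth.L11.Weil.point_comp_powMap FX hFb hle happ _ hφ, Category.assoc, ← hF1,
        ← Category.assoc, y.2.2]
    · apply pullback.hom_ext
      · rw [Category.assoc, hF1, ← Category.assoc, pullback.lift_fst,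
          Groth.L11.Weil.point_comp_powMap FX hFb hle happ _ hφ]
        exact h.2.2
      · rw [Category.assoc, hF2]
    · apply pullback.hom_ext
      · rw [pullback.lift_fst]
      · rw [pullback.lift_snd]; exact y.2.1.symm
  rw [hcard] at h
  exact h

end Groth.L03.HasseWeil

namespace Groth.L03.HasseWeil

variable {k : Type u} [Field k] [Finite k]

/-- The genus is determined by the number of elements of `H¹`. -/
theorem genus_eq_of_card {C : Scheme.{u}} [C.Over (Spec (CommRingCat.of k))] [IsProper (C ↘ Spec (CommRingCat.of k))]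
    {g : ℕ} (hg : Nat.card (Coh.HH C (Coh.structureModule C) 1) = Nat.card k ^ g) : Curv2.genus k C = g := by
  haveI : IsLocallyNoetherian C := LocallyOfFiniteType.isLocallyNoetherian (C ↘ Spec (CommRingCat.of k))
  haveI := Groth.L21.RR.finite_HH' k (Groth.L16.CohClosedPush.isCoh_structure (X := C)) 1
  rw [Module.natCard_eq_pow_finrank (K := k)] at hg
  exact Nat.pow_right_injective Finite.one_lt_card hg

/-- The bound over every finite extension. -/
theorem sq_pointCount_ext_le {C : Scheme.{u}} (f : C ⟶ Spec (CommRingCat.of k))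
    (hC : Curve.IsSmoothProperCurve k C f) [GeometricallyIrreducible f] (g : ℕ)
    (hg : Nat.card (Coh.HH C (Coh.structureModule C) 1) = Nat.card k ^ g)
    (k' : Type u) [Field k'] [Algebra k k'] [Finite k'] :
    ((SgaExt.pointCount f k' : ℤ) - (Nat.card k' : ℤ) - 1) ^ 2 ≤ 4 * (g : ℤ) ^ 2 * (Nat.card k' : ℤ) := by
  obtain ⟨hp, hs, hint, hdim⟩ := hC
  letI : C.Over (Spec (CommRingCat.of k)) := ⟨f⟩
  haveI : IsProper (C ↘ Spec (CommRingCat.of k)) := hp
  haveI : Smooth (C ↘ Spec (CommRingCat.of k)) := hs
  haveI : GeometricallyIrreducible (C ↘ Spec (CommRingCat.of k)) := ‹GeometricallyIrreducible f›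
  haveI := geometricallyIntegral_of_smooth (C ↘ Spec (CommRingCat.of k))
  let C' := pullback f (Spec.map (CommRingCat.ofHom (algebraMap k k')))
  letI : C'.Over (Spec (CommRingCat.of k')) := ⟨pullback.snd f (Spec.map (CommRingCat.ofHom (algebraMap k k')))⟩
  have sq : IsPullback (pullback.fst f (Spec.map (CommRingCat.ofHom (algebraMap k k'))))
      (C' ↘ Spec (CommRingCat.of k')) (C ↘ Spec (CommRingCat.of k))
      (Spec.map (CommRingCat.ofHom (algebraMap k k'))) := IsPullback.of_hasPullback _ _
  haveI : Algebra.IsIntegral k k' := Algebra.IsIntegral.of_finite k k'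
  obtain ⟨hint', hprop', hdim'⟩ := Groth.L21.RR.bc_facts (k := k) (X := C) k' hdim _ sq
  haveI := hprop'
  haveI : Smooth (C' ↘ Spec (CommRingCat.of k')) := MorphismProperty.of_isPullback (P := @Smooth) sq inferInstance
  haveI : GeometricallyIrreducible (C' ↘ Spec (CommRingCat.of k')) :=
    MorphismProperty.of_isPullback (P := @GeometricallyIrreducible) sq inferInstance
  have h := sq_pointCount_le (k := k') (C := C') hdim'
  rw [Groth.L21.RR.genus_bc _ sq, genus_eq_of_card hg] at h
  rwa [show SgaExt.pointCount (C' ↘ Spec (CommRingCat.of k')) k' = SgaExt.pointCount f k' from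
    Groth.L11.ZetaCounts.pointCount_baseChange f k' k'] at h

end Groth.L03.HasseWeil
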