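import Groth.Agent.L03.BlowPt.PtDeg
import Mathlib.AlgebraicGeometry.Artinian
import Mathlib.RingTheory.Artinian.Module

/-!
# The Euler characteristic of a finite reduced scheme over an algebraically closed field
-/

set_option autoImplicit false
set_option linter.style.haveILetI false
set_option backward.isDefEq.respectTransparency false

universe u

open CategoryTheory CategoryTheory.Limits AlgebraicGeometry TopologicalSpace Opposite
open Groth.L03.Euler

noncomputable section

namespace Groth.L03.HasseWeil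

/-- A finite reduced scheme over an algebraically closed field has as Euler characteristic its number
of points. -/
theorem euler_finite_reduced (k : Type u) [Field k] [IsAlgClosed k] (Z : Scheme.{u})
    [Z.Over (Spec (CommRingCat.of k))] [IsProper (Z ↘ Spec (CommRingCat.of k))] [IsReduced Z] [Finite Z] :
    Curv2.euler k Z (Coh.structureModule Z) = Nat.card Z := by
  haveI : JacobsonSpace Z := LocallyOfFiniteType.jacobsonSpace (Z ↘ Spec (CommRingCat.of k))
  haveI : DiscreteTopology Z := inferInstance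
  haveI : IsLocallyArtinian Z := inferInstance
  haveI : IsAffine Z := inferInstance
  haveI : IsArtinianRing Γ(Z, ⊤) := IsLocallyArtinian.isArtinianRing_presheaf_obj ⟨⊤, isAffineOpen_top Z⟩
  haveI : _root_.IsReduced Γ(Z, ⊤) := inferInstance
  haveI : Coh.IsQCoh (Coh.structureModule Z) := Groth.L19.Conormal.isQCoh_structureModule _
  haveI : Z.IsSeparated := ⟨by rw [← terminal.comp_from (Z ↘ Spec (CommRingCat.of k))]; infer_instance⟩
  let j := Z ↘ Spec (CommRingCat.of k)
  rw [Groth.L17.Strat.euler_eq_finrank (k := k) fun i hi => by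
    obtain ⟨n, rfl⟩ := Nat.exists_eq_succ_of_ne_zero hi.ne'
    exact Groth.L17.subsingleton_HH_of_isAffine Z _ n]
  let hT : IsTerminal (⊤ : Opens Z) := IsTerminal.ofUniqueHom (fun U => homOfLE le_top) (fun _ _ => rfl)
  let e : Coh.HH Z (Coh.structureModule Z) 0 ≃+ Coh.Γtop Z :=
    Sheaf.H.equiv₀ (Coh.toAb (Coh.structureModule Z)) hT
  letI : Algebra k Γ(Z, ⊤) := (((Scheme.ΓSpecIso (CommRingCat.of k)).inv ≫ j.appTop).hom).toAlgebra
  have he : ∀ (c : k) (z : Coh.HH Z (Coh.structureModule Z) 0),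
      (show Γ(Z, ⊤) from e (c • z)) = c • (show Γ(Z, ⊤) from e z) := fun c z => by
    show Sheaf.H.equiv₀ _ hT (Sheaf.H.map (Coh.smulAb (Coh.structureModule Z) _) 0 z) = _
    rw [← Sheaf.H.equiv₀_naturality]
    refine (Coh.smulAb_app (Coh.structureModule Z) _ (op ⊤) _).trans ?_
    show Coh.resTop Z (op ⊤) _ * _ = _
    rw [Algebra.smul_def]
    congr 1
    exact congrArg (fun φ : Z.presheaf.obj (op ⊤) ⟶ Z.presheaf.obj (op ⊤) => φ.hom _) (Z.presheaf.map_id _)
  let E : Coh.HH Z (Coh.structureModule Z) 0 ≃ₗ[k] Γ(Z, ⊤) :=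
    { (e : Coh.HH Z (Coh.structureModule Z) 0 ≃+ Γ(Z, ⊤)) with map_smul' := fun c z => he c z }
  haveI : IsFinite j := IsFinite.iff_isProper_and_isAffineHom.mpr ⟨inferInstance, inferInstance⟩
  haveI : Module.Finite k Γ(Z, ⊤) := RingHom.Finite.comp (Scheme.Hom.finite_appTop j)
    (RingHom.Finite.of_surjective _ (Scheme.ΓSpecIso (CommRingCat.of k)).symm.commRingCatIsoToRingEquiv.surjective)
  haveI : Fintype (MaximalSpectrum Γ(Z, ⊤)) := Fintype.ofFinite _
  rw [E.finrank_eq, (IsArtinianRing.equivPi Γ(Z, ⊤)).toLinearEquiv.restrictScalars k |>.finrank_eq,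
    Module.finrank_pi_fintype]
  have h1 : ∀ I : MaximalSpectrum Γ(Z, ⊤), Module.finrank k (Γ(Z, ⊤) ⧸ I.asIdeal) = 1 := fun I => by
    haveI := I.isMaximal
    letI := Ideal.Quotient.field I.asIdeal
    rw [← (LinearEquiv.ofBijective (Algebra.linearMap k (Γ(Z, ⊤) ⧸ I.asIdeal))
      IsAlgClosed.algebraMap_bijective_of_isIntegral).finrank_eq, Module.finrank_self]
  rw [Finset.sum_congr rfl fun I _ => h1 I]
  simp only [Finset.sum_const, Finset.card_univ, smul_eq_mul, mul_one]
  rw [← Nat.card_eq_fintype_card, Nat.card_congr (IsArtinianRing.primeSpectrumEquivMaximalSpectrum (R := Γ(Z, ⊤))).symm]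
  exact congrArg _ (Nat.card_congr Z.isoSpec.hom.homeomorph.toEquiv.symm)

end Groth.L03.HasseWeil
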