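import Groth.Agent.L03.HasseWeil.Setup
import Groth.Agent.L03.HasseWeil.FiniteEuler
import Groth.Agent.L03.ProdCurves.Setup
import Groth.Agent.L03.InterLen.Main
import Groth.Agent.L12.HypSq.Inter
import Groth.Agent.L07.PrinParts.GrBaseChange
import Groth.Agent.L17.ThickBasic
import Groth.Agent.L19.ConormalAffine
import Mathlib.AlgebraicGeometry.AlgClosed.Basic

/-!
# Intersections of the graph of an endomorphism with the diagonal
-/

set_option autoImplicit false
set_option linter.style.haveILetI false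
set_option linter.unusedSectionVars false
set_option backward.isDefEq.respectTransparency false

universe u

open CategoryTheory CategoryTheory.Limits AlgebraicGeometry TopologicalSpace
open Groth.L22 Groth.L22.Inter Groth.L22.Nef Groth.L22.Big Groth.L03.SurfNum
open Groth.L12.HypSq (Sq)

noncomputable section

namespace Groth.L03.HasseWeil

/-- The inverse image of an invertible ideal with invertible inverse image. -/
theorem nonempty_pullback_ideal {Y S : Scheme.{u}} (v : Y ⟶ S) (I : S.IdealSheafData) (J : Y.IdealSheafData)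
    (hJI : J = I.comap v) (hI : PicF.IsInvertible (ClSub.idealMod I)) (hJ : PicF.IsInvertible (ClSub.idealMod J)) :
    Nonempty ((Scheme.Modules.pullback v).obj (ClSub.idealMod I) ≅ ClSub.idealMod J) := by
  obtain ⟨α, -, hα, -⟩ := Groth.L07.PrinParts.exists_idealMap v I J hJI
  haveI := hα
  haveI := Groth.L03.InterLen.isIso_of_epi_invertible α (Groth.L18.Ample.isInvertible_pullback v hI) hJ
  exact ⟨asIso α⟩

/-- The structure sheaf of a closed subscheme as a quotient module. -/
theorem nonempty_push_quot {Z X : Scheme.{u}} (i : Z ⟶ X) [IsClosedImmersion i] :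
    Nonempty ((Coh.push i).obj (Coh.structureModule Z) ≅ ClSub.quotMod i.ker) := by
  let e : i.ker.subscheme ≅ Z := (asIso i.toImage).symm
  exact ⟨(Scheme.Modules.pushforwardCongr (Scheme.Hom.toImage_imageι i).symm).app _ ≪≫
    ((Scheme.Modules.pushforwardComp i.toImage i.ker.subschemeι).app _).symm ≪≫
    (Scheme.Modules.pushforward i.ker.subschemeι).mapIso
      (((Groth.L19.Conormal.pullbackIsoPush e).app _).symm ≪≫ Groth.L29.LocFree.pullbackUnitIso e.hom)⟩

variable {K : Type u} [Field K] [IsAlgClosed K] {X : Scheme.{u}} [X.Over (Spec (CommRingCat.of K))]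
  [IsProper (X ↘ Spec (CommRingCat.of K))] [Smooth (X ↘ Spec (CommRingCat.of K))] [IsIntegral X]
  (hX : topologicalKrullDim X = 1)

variable (K X) in
/-- The diagonal. -/
abbrev dg : X ⟶ Sq K X := pullback.lift (𝟙 X) (𝟙 X) rfl

instance isClosedImmersion_dg : IsClosedImmersion (dg K X) :=
  haveI : IsClosedImmersion (dg K X ≫ pullback.fst (X ↘ Spec (CommRingCat.of K)) (X ↘ Spec (CommRingCat.of K))) := by
    rw [pullback.lift_fst]; infer_instance
  IsClosedImmersion.of_comp _ (pullback.fst (X ↘ Spec (CommRingCat.of K)) (X ↘ Spec (CommRingCat.of K)))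

include hX

theorem sq_facts : IsIntegral (Sq K X) ∧ topologicalKrullDim (Sq K X) = (2 : ℕ) ∧
    ∀ z : Sq K X, IsRegularLocalRing ((Sq K X).presheaf.stalk z) := by
  haveI : Smooth ((Sq K X) ↘ Spec (CommRingCat.of K)) :=
    inferInstanceAs (Smooth (pullback.fst (X ↘ Spec (CommRingCat.of K)) (X ↘ Spec (CommRingCat.of K)) ≫
      (X ↘ Spec (CommRingCat.of K))))
  haveI := Groth.L08.Cube.geometricallyIntegral_of_isAlgClosed (X ↘ Spec (CommRingCat.of K))
  haveI : Flat (X ↘ Spec (CommRingCat.of K)) := inferInstance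
  haveI : UniversallyOpen (X ↘ Spec (CommRingCat.of K)) := inferInstance
  haveI := Groth.L21.RR.isNoetherian_of_proper (X := X) K
  refine ⟨inferInstance, ?_, fun z =>
    Groth.L08.Cube.isRegularLocalRing_of_smooth ((Sq K X) ↘ Spec (CommRingCat.of K)) z⟩
  rw [Groth.Agent.S4643.result (X ↘ Spec (CommRingCat.of K)) (X ↘ Spec (CommRingCat.of K)), hX]
  rfl

/-- The degree along a section is minus the intersection with its ideal. -/
theorem deg_section (i : X ⟶ Sq K X) [IsClosedImmersion i]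
    (hik : i ≫ ((Sq K X) ↘ Spec (CommRingCat.of K)) = X ↘ Spec (CommRingCat.of K)) {L : (Sq K X).Modules}
    (hL : PicF.IsInvertible L) :
    PicF.IsInvertible (ClSub.idealMod i.ker) ∧
      ((Curv2.deg K X ((Scheme.Modules.pullback i).obj L) 1 : ℤ) : ℚ) = - ii K (ClSub.idealMod i.ker) L := by
  obtain ⟨hint, hdim, hreg⟩ := sq_facts (K := K) hX
  haveI := hint
  obtain ⟨hI, -⟩ := CurveDegree.invertible_ker K i hdim hreg (hX.trans Nat.cast_one.symm)
  refine ⟨hI, ?_⟩
  have h := CurveDegree.deg_pullback K i hdim hreg (hX.trans Nat.cast_one.symm) hL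
  have e : (⟨i ≫ ((Sq K X) ↘ Spec (CommRingCat.of K))⟩ : X.Over (Spec (CommRingCat.of K))) =
      ‹X.Over (Spec (CommRingCat.of K))› := by
    cases ‹X.Over (Spec (CommRingCat.of K))› with
    | ofHom f => exact congrArg OverClass.ofHom hik
  rw [e] at h
  exact h

theorem invertible_dg : PicF.IsInvertible (ClSub.idealMod (dg K X).ker) := by
  obtain ⟨hint, hdim, hreg⟩ := sq_facts (K := K) hX
  haveI := hint
  exact (CurveDegree.invertible_ker K (dg K X) hdim hreg (hX.trans Nat.cast_one.symm)).1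

/-- A ruling meets the diagonal once. -/
theorem deg_dg_ruling (y : Spec (CommRingCat.of K) ⟶ X) (hy : y ≫ (X ↘ Spec (CommRingCat.of K)) = 𝟙 _)
    (i : X ⟶ Sq K X) (hy' : y ≫ i = y ≫ dg K X)
    (h : ∀ {T : Scheme.{u}} (t s : T ⟶ X), t ≫ i = s ≫ dg K X →
      t = s ∧ (s ≫ (X ↘ Spec (CommRingCat.of K))) ≫ y = s) :
    Curv2.deg K X ((Scheme.Modules.pullback i).obj (ClSub.idealMod (dg K X).ker)) 1 = -1 := by
  obtain ⟨hyc, hJ, hJdeg⟩ := Groth.L03.ProdCurves.point_ker hX y hy
  have sq : IsPullback y y i (dg K X) := by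
    refine ⟨⟨hy'⟩, ⟨PullbackCone.IsLimit.mk _ (fun c => c.snd ≫ (X ↘ Spec (CommRingCat.of K)))
      (fun c => ?_) (fun c => ?_) (fun c m hm hm' => ?_)⟩⟩
    · rw [(h c.fst c.snd c.condition).1, (h c.fst c.snd c.condition).2]
    · exact (h c.fst c.snd c.condition).2
    · rw [← hm', Category.assoc, hy, Category.comp_id]
  obtain ⟨α⟩ := nonempty_pullback_ideal i (dg K X).ker y.ker (Groth.L17.Thick.ker_of_isPullback sq)
    (invertible_dg hX) hJ
  rw [Groth.L21.RR.deg_congr K α 1, hJdeg]

variable (F : X ⟶ X) (hF : F ≫ (X ↘ Spec (CommRingCat.of K)) = X ↘ Spec (CommRingCat.of K))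

include hF in
/-- The graph meets the diagonal in the fixed points. -/
theorem deg_graph_dg (hred : IsReduced (FinFr.fixScheme (X ↘ Spec (CommRingCat.of K)) F hF))
    (hfin : Finite ↥(FinFr.fixScheme (X ↘ Spec (CommRingCat.of K)) F hF)) :
    Curv2.deg K X ((Scheme.Modules.pullback (Groth.L12.HypSq.graph hF)).obj (ClSub.idealMod (dg K X).ker)) 1 =
      - (Nat.card ↥(FinFr.fixScheme (X ↘ Spec (CommRingCat.of K)) F hF) : ℤ) := by
  haveI := Groth.L21.RR.isNoetherian_of_proper (X := X) K
  haveI : X.IsSeparated := ⟨by rw [← terminal.comp_from (X ↘ Spec (CommRingCat.of K))]; infer_instance⟩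
  let i : FinFr.fixScheme (X ↘ Spec (CommRingCat.of K)) F hF ⟶ X :=
    pullback.fst (Groth.L12.HypSq.graph hF) (dg K X)
  haveI : IsClosedImmersion i :=
    inferInstanceAs (IsClosedImmersion (pullback.fst (Groth.L12.HypSq.graph hF) (dg K X)))
  letI : (FinFr.fixScheme (X ↘ Spec (CommRingCat.of K)) F hF).Over (Spec (CommRingCat.of K)) :=
    ⟨i ≫ (X ↘ Spec (CommRingCat.of K))⟩
  haveI : IsProper ((FinFr.fixScheme (X ↘ Spec (CommRingCat.of K)) F hF) ↘ Spec (CommRingCat.of K)) :=
    inferInstanceAs (IsProper (i ≫ (X ↘ Spec (CommRingCat.of K))))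
  haveI := hred
  haveI := hfin
  haveI : JacobsonSpace ↥(FinFr.fixScheme (X ↘ Spec (CommRingCat.of K)) F hF) :=
    LocallyOfFiniteType.jacobsonSpace ((FinFr.fixScheme (X ↘ Spec (CommRingCat.of K)) F hF) ↘ Spec (CommRingCat.of K))
  have hinv : PicF.IsInvertible (ClSub.idealMod i.ker) := by
    refine Groth.L21.RR.isInvertible_idealMod K hX _ fun hmem => ?_
    rw [show ((i.ker).support : Set X) = Set.range i from
      (Scheme.Hom.support_ker i).trans i.isClosedEmbedding.isClosed_range.closure_eq] at hmem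
    obtain ⟨z, hz⟩ := hmem
    haveI : DiscreteTopology ↥(FinFr.fixScheme (X ↘ Spec (CommRingCat.of K)) F hF) := inferInstance
    have hc : IsClosed ({genericPoint X} : Set X) := by
      rw [← hz, ← Set.image_singleton]
      exact i.isClosedEmbedding.isClosedMap _ (isClosed_discrete _)
    exact genericPoint_notMem_point K hX hc rfl
  obtain ⟨α⟩ := nonempty_pullback_ideal (Groth.L12.HypSq.graph hF) (dg K X).ker i.ker
    (Groth.L17.Thick.ker_of_isPullback (IsPullback.of_hasPullback _ _)) (invertible_dg hX) hinv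
  obtain ⟨e⟩ := nonempty_push_quot i
  have hq : Curv2.euler K X (ClSub.quotMod i.ker) =
      Nat.card ↥(FinFr.fixScheme (X ↘ Spec (CommRingCat.of K)) F hF) := by
    rw [← Groth.L03.Euler.euler_iso e,
      Groth.L03.Euler.euler_push i _ (Groth.L19.Conormal.isQCoh_structureModule _) rfl]
    exact euler_finite_reduced K _
  have h := Groth.L03.SurfAdj.euler_quotMod K i.ker hinv
  rw [Groth.L21.RR.deg_congr K α 1, Curv2.deg]
  push_cast
  linarith

include hF in
/-- The fixed points of an endomorphism of degree `q` in terms of the rational points. -/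
theorem natCard_fix (hfin : Finite ↥(FinFr.fixScheme (X ↘ Spec (CommRingCat.of K)) F hF)) :
    Nat.card ↥(FinFr.fixScheme (X ↘ Spec (CommRingCat.of K)) F hF) =
      Nat.card {y : Spec (CommRingCat.of K) ⟶ X // y ≫ (X ↘ Spec (CommRingCat.of K)) = 𝟙 _ ∧ y ≫ F = y} := by
  let i : FinFr.fixScheme (X ↘ Spec (CommRingCat.of K)) F hF ⟶ X :=
    pullback.fst (Groth.L12.HypSq.graph hF) (dg K X)
  let str := FinFr.fixSchemeTo (X ↘ Spec (CommRingCat.of K)) F hF
  haveI : IsClosedImmersion i :=
    inferInstanceAs (IsClosedImmersion (pullback.fst (Groth.L12.HypSq.graph hF) (dg K X)))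
  haveI : LocallyOfFiniteType str :=
    inferInstanceAs (LocallyOfFiniteType (i ≫ (X ↘ Spec (CommRingCat.of K))))
  haveI := hfin
  haveI : JacobsonSpace ↥(FinFr.fixScheme (X ↘ Spec (CommRingCat.of K)) F hF) :=
    LocallyOfFiniteType.jacobsonSpace str
  haveI : DiscreteTopology ↥(FinFr.fixScheme (X ↘ Spec (CommRingCat.of K)) F hF) := inferInstance
  refine ((Nat.card_congr ((Equiv.setCongr (closedPoints_eq_univ
    (X := ↥(FinFr.fixScheme (X ↘ Spec (CommRingCat.of K)) F hF)))).trans (Equiv.Set.univ _))).symm.trans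
    (Nat.card_congr (pointEquivClosedPoint str).symm)).trans ?_
  have hcond : ∀ {T : Scheme.{u}} (z : T ⟶ FinFr.fixScheme (X ↘ Spec (CommRingCat.of K)) F hF),
      z ≫ pullback.snd (Groth.L12.HypSq.graph hF) (dg K X) = z ≫ i ∧ z ≫ i ≫ F = z ≫ i := by
    intro T z
    have h := congrArg (z ≫ ·) (pullback.condition (f := Groth.L12.HypSq.graph hF) (g := dg K X))
    have h1 := congrArg (· ≫ pullback.fst _ _) h
    have h2 := congrArg (· ≫ pullback.snd _ _) h
    simp only [Category.assoc, pullback.lift_fst, pullback.lift_snd, Category.comp_id] at h1 h2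
    exact ⟨h1.symm, h2.trans h1.symm⟩
  refine Nat.card_congr
    { toFun := fun z => ⟨z.1 ≫ i, (Category.assoc _ _ _).trans z.2,
        (Category.assoc _ _ _).trans (hcond z.1).2⟩
      invFun := fun y => ⟨pullback.lift y.1 y.1 (by apply pullback.hom_ext <;> simp [y.2.2]), by
        refine (pullback.lift_fst_assoc _ _ _ _).trans ?_
        exact y.2.1⟩
      left_inv := fun z => Subtype.ext (by
        apply pullback.hom_ext
        · rw [pullback.lift_fst]
        · rw [pullback.lift_snd]; exact (hcond z.1).1.symm)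
      right_inv := fun y => Subtype.ext (pullback.lift_fst _ _ _) }

include hF in
/-- The Hasse–Weil inequality for an endomorphism of degree `q` with simple fixed points. -/
theorem sq_fix_le {q : ℤ}
    (hdeg : ∀ M : X.Modules, PicF.IsInvertible M →
      Curv2.deg K X ((Scheme.Modules.pullback F).obj M) 1 = q * Curv2.deg K X M 1)
    (hred : IsReduced (FinFr.fixScheme (X ↘ Spec (CommRingCat.of K)) F hF))
    (hfin : Finite ↥(FinFr.fixScheme (X ↘ Spec (CommRingCat.of K)) F hF)) :
    ((Nat.card ↥(FinFr.fixScheme (X ↘ Spec (CommRingCat.of K)) F hF) : ℤ) - q - 1) ^ 2 ≤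
      4 * (Curv2.genus K X : ℤ) ^ 2 * q := by
  obtain ⟨hint, hdim, hreg⟩ := sq_facts (K := K) hX
  haveI := hint
  haveI := Groth.L21.RR.isNoetherian_of_proper (X := X) K
  obtain ⟨c, -, hc⟩ := (isClosed_univ (X := X)).exists_closed_singleton ⟨genericPoint X, trivial⟩
  let y : Spec (CommRingCat.of K) ⟶ X := pointOfClosedPoint (X ↘ Spec (CommRingCat.of K)) c hc
  have hy : y ≫ (X ↘ Spec (CommRingCat.of K)) = 𝟙 _ := pointOfClosedPoint_comp (X ↘ Spec (CommRingCat.of K)) c hc
  -- the endomorphism of the square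
  let φ : (Sq K X) ⟶ (Sq K X) := pullback.lift (pullback.fst (X ↘ Spec (CommRingCat.of K)) (X ↘ Spec (CommRingCat.of K))) (pullback.snd (X ↘ Spec (CommRingCat.of K)) (X ↘ Spec (CommRingCat.of K)) ≫ F)
    (by rw [Category.assoc, hF]; exact pullback.condition)
  let γ : X ⟶ (Sq K X) := pullback.lift F (𝟙 X) (by rw [hF, Category.id_comp])
  haveI : IsClosedImmersion γ := by
    haveI : IsClosedImmersion (γ ≫ pullback.snd (X ↘ Spec (CommRingCat.of K)) (X ↘ Spec (CommRingCat.of K))) := by rw [pullback.lift_snd]; infer_instance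
    exact IsClosedImmersion.of_comp γ (pullback.snd (X ↘ Spec (CommRingCat.of K)) (X ↘ Spec (CommRingCat.of K)))
  have hγφ : γ ≫ φ = F ≫ dg K X := by apply pullback.hom_ext <;> simp [γ, φ] <;> exact Category.id_comp F
  have hδφ : dg K X ≫ φ = Groth.L12.HypSq.graph hF := by apply pullback.hom_ext <;> simp [φ] <;> exact Category.id_comp F
  have sqγ : IsPullback γ F φ (dg K X) := by
    refine ⟨⟨hγφ⟩, ⟨PullbackCone.IsLimit.mk _ (fun s => s.fst ≫ pullback.snd (X ↘ Spec (CommRingCat.of K)) (X ↘ Spec (CommRingCat.of K)))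
      (fun s => ?_) (fun s => ?_) (fun s m hm _ => ?_)⟩⟩
    all_goals
      have h1 := congrArg (· ≫ pullback.fst (X ↘ Spec (CommRingCat.of K)) (X ↘ Spec (CommRingCat.of K))) s.condition
      have h2 := congrArg (· ≫ pullback.snd (X ↘ Spec (CommRingCat.of K)) (X ↘ Spec (CommRingCat.of K))) s.condition
      simp only [Category.assoc, φ, pullback.lift_fst, pullback.lift_snd, Category.comp_id] at h1 h2
    · apply pullback.hom_ext
      · simp only [Category.assoc, γ, pullback.lift_fst]; exact h2.trans h1.symm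
      · simp only [Category.assoc, γ, pullback.lift_snd, Category.comp_id]
    · rw [Category.assoc]; exact h2
    · rw [← hm, Category.assoc, pullback.lift_snd, Category.comp_id]
  -- the rulings
  let i₁ : X ⟶ (Sq K X) := pullback.lift (𝟙 X) ((X ↘ Spec (CommRingCat.of K)) ≫ y) (by rw [Category.assoc, hy, Category.comp_id, Category.id_comp])
  let i₂ : X ⟶ (Sq K X) := pullback.lift ((X ↘ Spec (CommRingCat.of K)) ≫ y) (𝟙 X) (by rw [Category.assoc, hy, Category.comp_id, Category.id_comp])
  let y' : Spec (CommRingCat.of K) ⟶ X := y ≫ F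
  have hy' : y' ≫ (X ↘ Spec (CommRingCat.of K)) = 𝟙 _ := by rw [Category.assoc, hF, hy]
  let i₁' : X ⟶ (Sq K X) := pullback.lift (𝟙 X) ((X ↘ Spec (CommRingCat.of K)) ≫ y') (by rw [Category.assoc, hy', Category.comp_id, Category.id_comp])
  have r₁ : ∀ (y : Spec (CommRingCat.of K) ⟶ X) (hy : y ≫ (X ↘ Spec (CommRingCat.of K)) = 𝟙 _),
      Curv2.deg K X ((Scheme.Modules.pullback (pullback.lift (𝟙 X) ((X ↘ Spec (CommRingCat.of K)) ≫ y)
        (by rw [Category.assoc, hy, Category.comp_id, Category.id_comp]) : X ⟶ (Sq K X))).obj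
          (ClSub.idealMod (dg K X).ker)) 1 = -1 := fun y hy => by
    refine deg_dg_ruling hX y hy _ (by apply pullback.hom_ext <;> simp [reassoc_of% hy]) fun t s h => ?_
    have h1 := congrArg (· ≫ pullback.fst (X ↘ Spec (CommRingCat.of K)) (X ↘ Spec (CommRingCat.of K))) h
    have h2 := congrArg (· ≫ pullback.snd (X ↘ Spec (CommRingCat.of K)) (X ↘ Spec (CommRingCat.of K))) h
    simp only [Category.assoc, pullback.lift_fst, pullback.lift_snd, Category.comp_id] at h1 h2
    exact ⟨h1, by rw [h1] at h2; rw [Category.assoc]; exact h2⟩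
  have r₂ : Curv2.deg K X ((Scheme.Modules.pullback i₂).obj (ClSub.idealMod (dg K X).ker)) 1 = -1 := by
    refine deg_dg_ruling hX y hy i₂ (by apply pullback.hom_ext <;> simp [i₂, reassoc_of% hy]) fun t s h => ?_
    have h1 := congrArg (· ≫ pullback.fst (X ↘ Spec (CommRingCat.of K)) (X ↘ Spec (CommRingCat.of K))) h
    have h2 := congrArg (· ≫ pullback.snd (X ↘ Spec (CommRingCat.of K)) (X ↘ Spec (CommRingCat.of K))) h
    simp only [i₂, Category.assoc, pullback.lift_fst, pullback.lift_snd, Category.comp_id] at h1 h2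
    exact ⟨h2, by rw [h2] at h1; rw [Category.assoc]; exact h1⟩
  -- the two classes
  have hI := invertible_dg (K := K) hX
  set I := ClSub.idealMod (dg K X).ker
  have hL' := Groth.L18.Ample.isInvertible_pullback φ hI
  set L' := (Scheme.Modules.pullback φ).obj I with hL'def
  obtain ⟨M, hMinv, hM⟩ := Groth.L08.Cube.exists_inverse hI
  obtain ⟨M', -, hM'⟩ := Groth.L08.Cube.exists_inverse hL'
  have hpb : ∀ (i : X ⟶ (Sq K X)), Curv2.deg K X ((Scheme.Modules.pullback i).obj L') 1 =
      Curv2.deg K X ((Scheme.Modules.pullback (i ≫ φ)).obj I) 1 := fun i =>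
    Groth.L21.RR.deg_congr K ((Scheme.Modules.pullbackComp i φ).app I) 1
  have hFpb : ∀ (i : X ⟶ (Sq K X)), Curv2.deg K X ((Scheme.Modules.pullback (F ≫ i)).obj I) 1 =
      q * Curv2.deg K X ((Scheme.Modules.pullback i).obj I) 1 := fun i => by
    rw [← hdeg _ (Groth.L18.Ample.isInvertible_pullback i hI)]
    exact (Groth.L21.RR.deg_congr K ((Scheme.Modules.pullbackComp F i).app I) 1).symm
  have a₁ : Curv2.deg K X ((Scheme.Modules.pullback i₁).obj L') 1 = -1 := by
    rw [hpb, show i₁ ≫ φ = i₁' by apply pullback.hom_ext <;> simp [i₁, i₁', φ, y']]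
    exact r₁ y' hy'
  have a₂ : Curv2.deg K X ((Scheme.Modules.pullback i₂).obj L') 1 = -q := by
    rw [hpb, show i₂ ≫ φ = F ≫ i₂ by apply pullback.hom_ext <;> simp [i₂, φ, reassoc_of% hF] <;> exact Category.id_comp F, hFpb, r₂]
    ring
  -- intersection numbers
  have hd := hdim.le
  have hδk : dg K X ≫ ((Sq K X) ↘ Spec (CommRingCat.of K)) = X ↘ Spec (CommRingCat.of K) :=
    (pullback.lift_fst_assoc _ _ _ _).trans (Category.id_comp _)
  obtain ⟨-, dII⟩ := deg_section hX (dg K X) hδk hI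
  obtain ⟨-, dIL⟩ := deg_section hX (dg K X) hδk hL'
  obtain ⟨hG, dGL⟩ := deg_section hX γ ((pullback.lift_fst_assoc _ _ _ _).trans hF) hL'
  obtain ⟨θ⟩ := nonempty_pullback_ideal φ (dg K X).ker γ.ker (Groth.L17.Thick.ker_of_isPullback sqγ) hI hG
  haveI : ConnectedSpace ↥X := inferInstance
  have hII : ii K I I = 2 - 2 * (Curv2.genus K X : ℚ) := by
    rw [← intNum_inv_eq_ii K hd hI hI hM hM,
      Groth.L12.HypSq.intNum_graph_self (f := 𝟙 X) hX (Category.id_comp _) hMinv
        (hM.map fun e => Groth.L00.Tensor.tensorComm M I ≪≫ e)]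
    push_cast
    rfl
  have hdII : (Curv2.deg K X ((Scheme.Modules.pullback (dg K X)).obj I) 1 : ℚ) =
      -(2 - 2 * (Curv2.genus K X : ℚ)) := by rw [dII, hII]
  have hL'L' : ii K L' L' = (q : ℚ) * (2 - 2 * (Curv2.genus K X : ℚ)) := by
    rw [ii_congr K θ L', ← neg_inj, ← dGL, hpb, hγφ, hFpb]
    push_cast
    rw [hdII]
    ring
  have hIL : ii K I L' = (Nat.card ↥(FinFr.fixScheme (X ↘ Spec (CommRingCat.of K)) F hF) : ℚ) := by
    rw [← neg_inj, ← dIL, hpb, hδφ, deg_graph_dg hX F hF hred hfin]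
    push_cast
    rfl
  have h := (Groth.L03.ProdCurves.main
    (C₁ := X) (C₂ := X) ⟨inferInstance, inferInstance, inferInstance, hX⟩ ⟨inferInstance, inferInstance, inferInstance, hX⟩
    y hy y hy i₁ ⟨pullback.lift_fst _ _ _, pullback.lift_snd _ _ _⟩ i₂
    ⟨pullback.lift_snd _ _ _, pullback.lift_fst _ _ _⟩ I M L' M' hI hM hL' hM').1
  rw [r₁ y hy, r₂, a₁, a₂, ← Int.cast_le (R := ℚ)] at h
  push_cast at h
  rw [intNum_inv_eq_ii K hd hI hL' hM hM', intNum_inv_eq_ii K hd hI hI hM hM,
    intNum_inv_eq_ii K hd hL' hL' hM' hM', hII, hL'L', hIL] at h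
  rw [← Int.cast_le (R := ℚ)]
  push_cast
  refine le_trans (le_of_eq ?_) (h.trans (le_of_eq ?_)) <;> ring

end Groth.L03.HasseWeil
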